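import Cfsg.Agent.Lib.Spor.Loc.Three.Gens

/-!
The centraliser of the fixed point free element of order three induces the alternating group on
nine invariant blocks of fixed classes, with kernel generated by the element and the sign.
-/

set_option autoImplicit false
set_option maxRecDepth 100000

namespace CfsgLib.Spor.Loc.Three

open Cfsg CfsgLib.Spor
open Equiv (swap)

/-- the blocks, as sets of classes -/
def blk (i : Fin 9) : Finset (Fin (2 ^ 8)) :=
  Finset.univ.filter fun x => (blocks.getD i []).any (Nat.beq x)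

theorem blk_card : ∀ i : Fin 9, (blk i).card = 15 := by decide +kernel

theorem blk_first : ∀ i : Fin 9, ∀ j : Fin 9,
    (blocks.getD j []).any (Nat.beq ((blocks.getD i []).getD 0 0)) = true → i = j := by decide +kernel

theorem blk_first_mem : ∀ i : Fin 9, (blocks.getD i []).getD 0 0 < 256 ∧
    (blocks.getD i []).any (Nat.beq ((blocks.getD i []).getD 0 0)) = true := by decide +kernel

theorem blk_injective : Function.Injective blk := fun i j h => by
  obtain ⟨h1, h2⟩ := blk_first_mem i
  have hm : (⟨_, h1⟩ : Fin (2 ^ 8)) ∈ blk i := Finset.mem_filter.2 ⟨Finset.mem_univ _, h2⟩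
  rw [h] at hm
  exact blk_first i j (Finset.mem_filter.1 hm).2

theorem bimgs_lt : ∀ k : Fin 7, ∀ i : Fin 9, (bimgs.getD k []).getD i 0 < 9 := by decide +kernel

/-- action of a generator on the block labels -/
def bmap (k : Fin 7) (i : Fin 9) : Fin 9 := ⟨(bimgs.getD k []).getD i 0, bimgs_lt k i⟩

theorem blk_moved : ((List.range 7).all fun k => (List.range 9).all fun i =>
    (blocks.getD i []).all fun x =>
      (blocks.getD ((bimgs.getD k []).getD i 0) []).any (Nat.beq (lext 8 (imgs.getD k []) x)))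
    = true := by decide +kernel

theorem blk_image (k : Fin 7) (i : Fin 9) : (blk i).image (tab.img (gEl k)) = blk (bmap k i) := by
  refine Finset.eq_of_subset_of_card_le ?_ ?_
  · intro y hy
    obtain ⟨x, hx, rfl⟩ := Finset.mem_image.1 hy
    obtain ⟨z, hz, he⟩ := List.any_eq_true.1 (Finset.mem_filter.1 hx).2
    rw [Nat.beq_eq] at he
    subst he
    have h := List.all_eq_true.1 (List.all_eq_true.1 (List.all_eq_true.1 blk_moved k
      (List.mem_range.2 k.2)) i (List.mem_range.2 i.2)) _ hz
    refine Finset.mem_filter.2 ⟨Finset.mem_univ _, ?_⟩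
    rw [gEl_img]
    exact h
  · rw [Finset.card_image_of_injective _
      (show Function.Injective (tab.img (gEl k)) from (tab.act (gEl k)).injective), blk_card, blk_card]

theorem exists_phi : ∃ φ : CB bh →* Equiv.Perm (Fin 9),
    ∀ g i, (blk i).image (tab.img g) = blk (φ g i) :=
  tab.exists_setsHom blk blk_injective (Set.range gEl) genS_eq_top
    (by rintro _ ⟨k, rfl⟩ i; exact ⟨_, blk_image k i⟩)

/-- the action on the blocks -/
noncomputable def phi : CB bh →* Equiv.Perm (Fin 9) := exists_phi.choose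

theorem phi_spec : ∀ g i, (blk i).image (tab.img g) = blk (phi g i) := exists_phi.choose_spec

theorem phi_gEl (k : Fin 7) (i : Fin 9) : phi (gEl k) i = bmap k i :=
  blk_injective ((phi_spec _ i).symm.trans (blk_image k i))

theorem phi_eq_one {g : CB bh} (h : tab.act g = 1) : phi g = 1 :=
  setsHom_eq_one tab blk_injective phi_spec h

/-- the image of a label under a word -/
def evalW (w : List ℕ) (i : ℕ) : ℕ := w.foldr (fun k x => (bimgs.getD k []).getD x 0) i

theorem cyc_ok : ∀ a b c : Fin 9, a ≠ b → a ≠ c → b ≠ c →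
    ((cycWords.getD (81 * (a : ℕ) + 9 * b + c) []).all (Nat.blt · 7) = true) ∧
    ∀ i : Fin 9, evalW (cycWords.getD (81 * (a : ℕ) + 9 * b + c) []) i =
      ((swap a b * swap b c) i : ℕ) := by decide +kernel

theorem exists_word_mem : ∀ w : List ℕ, w.all (Nat.blt · 7) = true →
    ∃ g : CB bh, ∀ i : Fin 9, (phi g i : ℕ) = evalW w i
  | [], _ => ⟨1, fun i => by rw [map_one]; rfl⟩
  | k :: w, h => by
    simp only [List.all_cons, Bool.and_eq_true, Nat.blt_eq] at h
    obtain ⟨g, hg⟩ := exists_word_mem w h.2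
    refine ⟨gEl ⟨k, h.1⟩ * g, fun i => ?_⟩
    rw [map_mul, Equiv.Perm.mul_apply, phi_gEl]
    show (bimgs.getD k []).getD (phi g i : ℕ) 0 = _
    rw [hg]
    rfl

theorem bmap_even : ∀ k : Fin 7, ∃ σ : Equiv.Perm (Fin 9),
    (∀ i, σ i = bmap k i) ∧ Equiv.Perm.sign σ = 1 := by
  have hinv : ∀ k : Fin 7, ∀ i : Fin 9,
      ((bimgs.getD k []).getD ((binvs.getD k []).getD i 0) 0 = i) ∧
      ((binvs.getD k []).getD ((bimgs.getD k []).getD i 0) 0 = i) ∧
      (binvs.getD k []).getD i 0 < 9 := by decide +kernel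
  intro k
  refine ⟨⟨bmap k, fun i => ⟨(binvs.getD k []).getD i 0, (hinv k i).2.2⟩,
    fun i => Fin.ext (hinv k i).2.1, fun i => Fin.ext (hinv k i).1⟩, fun i => rfl, ?_⟩
  revert hinv k
  decide +kernel

theorem phi_range : phi.range = alternatingGroup (Fin 9) := by
  refine le_antisymm ?_ ?_
  · rw [MonoidHom.range_eq_map, ← genS_eq_top, MonoidHom.map_closure, Subgroup.closure_le]
    rintro _ ⟨_, ⟨k, rfl⟩, rfl⟩
    obtain ⟨σ, hσ, hs⟩ := bmap_even k
    rw [SetLike.mem_coe, Equiv.Perm.mem_alternatingGroup,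
      show phi (gEl k) = σ from Equiv.ext fun i => (phi_gEl k i).trans (hσ i).symm, hs]
  · rw [← Equiv.Perm.closure_three_cycles_eq_alternating, Subgroup.closure_le]
    intro σ (hσ : σ.IsThreeCycle)
    obtain ⟨a, ha⟩ : σ.support.Nonempty := Finset.card_pos.1 (by rw [hσ.card_support]; norm_num)
    have hnd := hσ.nodup_iff_mem_support.2 ha
    simp only [List.nodup_cons, List.mem_cons, List.not_mem_nil, or_false, not_or,
      List.nodup_nil, and_true] at hnd
    obtain ⟨⟨hab, hac⟩, hbc⟩ := hnd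
    obtain ⟨hw, he⟩ := cyc_ok a (σ a) (σ (σ a)) hab hac hbc.1
    obtain ⟨g, hg⟩ := exists_word_mem _ hw
    refine ⟨g, ?_⟩
    rw [hσ.eq_swap_mul_swap_iff_mem_support.2 ha]
    exact Equiv.ext fun i => Fin.ext ((hg i).trans (he i))

/-- the action, as a map to the alternating group -/
noncomputable def phiA : CB bh →* alternatingGroup (Fin 9) :=
  phi.codRestrict _ fun g => phi_range ▸ ⟨g, rfl⟩

theorem phiA_surjective : Function.Surjective phiA := by
  rintro ⟨σ, hσ⟩
  obtain ⟨g, hg⟩ := phi_range.ge hσ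
  exact ⟨g, Subtype.ext hg⟩

theorem phiA_eq_one {g : CB bh} (h : tab.act g = 1) : phiA g = 1 := Subtype.ext (phi_eq_one h)

theorem orderOf_bh : orderOf bh = 3 := by
  haveI : Fact (Nat.Prime 3) := ⟨Nat.prime_three⟩
  rw [bh, CentralFree.orderOf_permEl]
  refine orderOf_eq_prime t3El_cube fun h => ?_
  have h1 := rep_t3El
  rw [h] at h1
  have h2 := h1 0 (by norm_num)
  revert h2
  decide +kernel

theorem phiA_ker : ∀ g : CB bh, phiA g = 1 ↔
    (QuotientGroup.mk (g : Co0) : Cfsg.Spor.Co1) ∈
      Subgroup.zpowers (QuotientGroup.mk bh : Cfsg.Spor.Co1) :=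
  ker_of_card Nat.prime_three ⟨1, rfl⟩ orderOf_bh phiA phiA_surjective
    (phiA_eq_one tab.act_self) (phiA_eq_one tab.act_neg)
    (card_CB.trans_eq (by rw [nat_card_alternatingGroup, Nat.card_fin]; rfl))

theorem alt_two_normal (N : Subgroup (alternatingGroup (Fin 9))) (hn : N.Normal)
    (hp : IsPGroup 2 N) : N = ⊥ := by
  haveI := alternatingGroup.isSimpleGroup (α := Fin 9) (by simp)
  refine hn.eq_bot_or_eq_top.resolve_right fun h => ?_
  subst h
  obtain ⟨j, hj⟩ := IsPGroup.iff_card.1 hp
  rw [Subgroup.card_top, nat_card_alternatingGroup, Nat.card_fin] at hj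
  have h3 : 3 ∣ 2 ^ j := hj ▸ (by decide)
  exact absurd (Nat.prime_three.dvd_of_dvd_pow h3) (by norm_num)

end CfsgLib.Spor.Loc.Three
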