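import Cfsg.Agent.Lib.Spor.Loc.Three.Table
import Cfsg.Agent.Lib.Spor.Loc.Three.Data

/-!
Generation and order of the centraliser of the fixed point free element of order three.
-/

set_option autoImplicit false
set_option maxRecDepth 100000

namespace CfsgLib.Spor.Loc.Three

open Cfsg CfsgLib.Spor
open CfsgLib.MathieuOut (dfs planOK normP canon canon_mem_dfs canon_eq_normP canon_injective stabG_M24 rep_idP)
open scoped Pointwise symmDiff

/-- inverse codes of the two permutation generators -/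
def pinv : List ℕ := [356336882929687323753356700922452142, 104805047435735242457067667461755943]

theorem pgens_ok : ((List.range 2).all fun k => isM24P (pgens.getD k 0) &&
    isM24P (pinv.getD k 0) &&
    Nat.beq (compP (pinv.getD k 0) (pgens.getD k 0)) CfsgLib.MathieuOut.idP) = true := by
  decide +kernel

theorem exists_pgen (k : ℕ) (hk : k < pgens.length) :
    ∃ σ : ↥M24, Rep (σ : Equiv.Perm GolayPt) (pgens.getD k 0) ∧ permEl σ ∈ genS0 := by
  have hk2 : k < 2 := hk
  have h := List.all_eq_true.1 pgens_ok k (List.mem_range.2 hk2)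
  simp only [Bool.and_eq_true, Nat.beq_eq] at h
  obtain ⟨⟨h1, h2⟩, h3⟩ := h
  obtain ⟨σ, hσ, hσr⟩ := exists_rep_M24 h1
  obtain ⟨τ, hτ, hτr⟩ := exists_rep_M24 h2
  have e := hτr.mul hσr
  rw [h3] at e
  have hinv : τ = σ⁻¹ := eq_inv_of_mul_eq_one_left (e.inj rep_idP)
  subst hinv
  refine ⟨⟨σ, hσ⟩, hσr, mem_genS0_of_acts ⟨k, by omega⟩ (P := [.mono (pinv.getD k 0) 0]) ?_
    (Co1Out.actsAs_monoEl hτr toSet_zero.symm)⟩
  interval_cases k <;> rfl

theorem lists_ok : permClosOK pgens clos [] = true ∧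
    (clos.all fun e => isM24P e.1) = true ∧
    (reps.all fun c => (clos.map Prod.fst).any (Nat.beq c)) = true ∧
    (stab.all fun c => (clos.map Prod.fst).any (Nat.beq c)) = true ∧
    ((List.range 24).all fun t => Nat.beq (getP (reps.getD t 0) 1) t &&
      Nat.beq (compP (reps.getD t 0) permA) (compP permA (reps.getD t 0))) = true ∧
    reps.length = 24 ∧ stab.length = 21 := by decide +kernel

theorem plan_ok : planOK permA plan [] = true ∧
    ((dfs [] [1] permA permA plan []).all fun t => (stab.map normP).any (Nat.beq t)) = true := by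
  decide +kernel

theorem words_ok : fixedOK permA fixedWords = true ∧
    (fixedWords.all fun m => (spanList fixedBasis).any (Nat.beq m)) = true ∧
    (fixedBasis.all fun m => inCode m && Nat.blt m 16777216) = true ∧
    fixedWords.length = 16 := by decide +kernel

theorem exists_code {c : ℕ} (h : (clos.map Prod.fst).any (Nat.beq c) = true) :
    ∃ τ : ↥M24, Rep (τ : Equiv.Perm GolayPt) c ∧ permEl τ ∈ genS0 := by
  obtain ⟨v, hv, he⟩ := List.any_eq_true.1 h
  rw [Nat.beq_eq] at he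
  subst he
  obtain ⟨e, he, rfl⟩ := List.mem_map.1 hv
  obtain ⟨τ, hτ, hτr⟩ := exists_rep_M24 (List.all_eq_true.1 lists_ok.2.1 e he)
  exact ⟨⟨τ, hτ⟩, hτr, perm_mem genS0 exists_pgen clos [] (by simp) (by simp) lists_ok.1 e.1
    (List.mem_append_right _ hv) ⟨τ, hτ⟩ hτr⟩

/-- all elements of the centraliser in M24 -/
def centList : List ℕ := reps.flatMap fun c => stab.map fun d => normP (compP c d)

theorem exists_prod (σ : ↥M24) (h : σ * t3El = t3El * σ) :
    ∃ τ ρ : ↥M24, ∃ c ∈ reps, ∃ d ∈ stab, Rep (τ : Equiv.Perm GolayPt) c ∧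
      Rep (ρ : Equiv.Perm GolayPt) d ∧ permEl τ ∈ genS0 ∧ permEl ρ ∈ genS0 ∧ σ = τ * ρ := by
  obtain ⟨-, -, hreps, hstab, hT, hlr, -⟩ := lists_ok
  have ht := List.all_eq_true.1 hT (idx ((σ : Equiv.Perm GolayPt) (pt 1)))
    (List.mem_range.2 (idx_lt _))
  simp only [Bool.and_eq_true, Nat.beq_eq] at ht
  set t := idx ((σ : Equiv.Perm GolayPt) (pt 1)) with htdef
  have htl : t < reps.length := by rw [hlr]; exact idx_lt _
  set c := reps.getD t 0 with hc
  have hcmem : c ∈ reps := by rw [hc, List.getD_eq_getElem reps _ htl]; exact List.getElem_mem _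
  obtain ⟨τ, hτ, hτS⟩ := exists_code (List.all_eq_true.1 hreps c hcmem)
  have hτc : τ * t3El = t3El * τ := by
    have h1 := hτ.mul rep_t3El
    rw [show (418350257037002393130034496246561425 : ℕ) = permA from rfl, ht.2] at h1
    exact Subtype.ext (h1.inj (Rep.mul (show Rep (t3El : Equiv.Perm GolayPt) permA from rep_t3El) hτ))
  have hρc : τ⁻¹ * σ * t3El = t3El * (τ⁻¹ * σ) := by
    rw [mul_assoc, h, ← mul_assoc, ← mul_assoc,
      show τ⁻¹ * t3El = t3El * τ⁻¹ from (Commute.inv_left hτc).eq]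
  have hfix : ((τ⁻¹ * σ : ↥M24) : Equiv.Perm GolayPt) (pt 1) = pt 1 := by
    have h1 : (τ : Equiv.Perm GolayPt) (pt 1) = (σ : Equiv.Perm GolayPt) (pt 1) :=
      idx_injective ((hτ 1 (by norm_num)).symm.trans ht.1)
    rw [Subgroup.coe_mul, Subgroup.coe_inv, Equiv.Perm.mul_apply, ← h1]
    exact (τ : Equiv.Perm GolayPt).symm_apply_apply _
  have hs : ((τ⁻¹ * σ : ↥M24) : Equiv.Perm GolayPt) ∈ CfsgLib.Spor.stabG [] [1] :=
    ⟨(τ⁻¹ * σ).2, by simp, by simpa using hfix⟩
  have hmem := canon_mem_dfs plan_ok.1 hs (by simp) rep_t3El rep_t3El (congrArg Subtype.val hρc)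
  obtain ⟨u, hu, he⟩ := List.any_eq_true.1 (List.all_eq_true.1 plan_ok.2 _ hmem)
  rw [Nat.beq_eq] at he
  obtain ⟨d, hd, rfl⟩ := List.mem_map.1 hu
  obtain ⟨ρ, hρ, hρS⟩ := exists_code (List.all_eq_true.1 hstab d hd)
  have e : τ⁻¹ * σ = ρ :=
    Subtype.ext (canon_injective (he.trans (canon_eq_normP hρ).symm))
  exact ⟨τ, ρ, c, hcmem, d, hd, hτ, hρ, hτS, hρS, by rw [← e, mul_inv_cancel_left]⟩

theorem canon_mem (σ : ↥M24) (h : σ * t3El = t3El * σ) :
    canon (σ : Equiv.Perm GolayPt) ∈ centList := by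
  obtain ⟨τ, ρ, c, hc, d, hd, hτ, hρ, -, -, rfl⟩ := exists_prod σ h
  rw [centList, List.mem_flatMap]
  exact ⟨c, hc, List.mem_map.2 ⟨d, hd, (canon_eq_normP (hτ.mul hρ)).symm⟩⟩

theorem permEl_mem (σ : ↥M24) (h : σ * t3El = t3El * σ) : permEl σ ∈ genS0 := by
  obtain ⟨τ, ρ, c, -, d, -, -, -, hτ, hρ, rfl⟩ := exists_prod σ h
  rw [permEl_mul]
  exact mul_mem hτ hρ

theorem fixed_mem (c : ↥(supports (golayCode : Set (GolayPt → ZMod 2))))
    (h : (t3El : Equiv.Perm GolayPt) • (c : Finset GolayPt) = c) : epsEl c ∈ genS0 := by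
  have hw := fixed_word rep_t3El words_ok.1 c.2 h
  obtain ⟨m, hm, he⟩ := List.any_eq_true.1 (List.all_eq_true.1 words_ok.2.1 _ hw)
  rw [Nat.beq_eq] at he
  refine Loc.eps_mem genS0 words_ok.2.2.1 ?_ m hm c (by rw [← he, toSet_mask])
  intro w hwb g hg
  obtain ⟨j, hj, rfl⟩ := List.getElem_of_mem hwb
  have hj4 : j < 4 := hj
  refine mem_genS0_of_acts ⟨2 + j, by omega⟩ ?_ hg
  interval_cases j <;> rfl

theorem stab_mem (g : CB bh) (hg : (g : Co0) ∈ crossStab) : g ∈ genS := by
  obtain ⟨σ, c, h1, h2, -, h4⟩ :=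
    stab_cases (A := t3El) rfl hg (Subgroup.mem_centralizer_singleton_iff.1 g.2)
  have : (g : Co0) ∈ genS0 := h4 ▸ mul_mem (fixed_mem c h2) (permEl_mem σ h1)
  obtain ⟨g', hg', he⟩ := this
  rwa [← Subtype.ext (a1 := g') (a2 := g) he]

theorem centList_length : centList.length = 504 := by decide +kernel

theorem card_stab : Nat.card ↥(crossStab ⊓ CB bh) ≤ 8064 := by
  refine (card_stab_le (A := t3El) rfl rep_t3El words_ok.1 canon_mem).trans ?_
  rw [centList_length, words_ok.2.2.2]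

/-- the classes reached -/
def orbit : List ℕ := orb.map Prod.fst ++ [1]

theorem orbit_ok : orbitOK 8 1 imgs orb [1] = true ∧ imgs.length = 7 ∧
    ((List.range 256).all fun i =>
      !(decide (normL (tb.getD i []) = 64)) || orbit.any (Nat.beq i)) = true ∧
    orbit.length = 135 := by decide +kernel

theorem img_top_mem (g : CB bh) : (tab.img g ⟨1, by norm_num⟩ : ℕ) ∈ orbit := by
  have h64 := tab.img_norm (t := 1) (by norm_num) (congrArg cl tv_top) g
  set j := tab.img g ⟨1, by norm_num⟩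
  have h := List.all_eq_true.1 orbit_ok.2.2.1 j (List.mem_range.2 j.2)
  simp only [h64, decide_true, Bool.not_true, Bool.false_or, List.any_eq_true, Nat.beq_eq] at h
  obtain ⟨i, hi, he⟩ := h
  exact he ▸ hi

theorem reach (i : ℕ) (hi : i ∈ orbit) :
    i < 2 ^ 8 ∧ ∃ g ∈ genS, (tab.img g ⟨1, by norm_num⟩ : ℕ) = i :=
  reach_orbit tab (S := genS) (ls := imgs) (fun k hk => ⟨gEl ⟨k, orbit_ok.2.1 ▸ hk⟩,
      Subgroup.subset_closure ⟨_, rfl⟩, gEl_img _⟩) (by norm_num) orb [1]
    (fun a ha => by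
      obtain rfl := List.mem_singleton.1 ha
      exact ⟨by norm_num, 1, one_mem _, by rw [tab.img_one]⟩) orbit_ok.1 i hi

theorem genS_eq_top : genS = ⊤ :=
  eq_top_of_orbit tab (by norm_num) (congrArg cl tv_top) orbit genS img_top_mem
    (fun i hi => (reach i hi).2) stab_mem

theorem card_CB : Nat.card (CB bh) ≤ 1088640 := by
  refine (card_le_orbit tab (by norm_num) (congrArg cl tv_top) img_top_mem card_stab).trans ?_
  rw [orbit_ok.2.2.2]

end CfsgLib.Spor.Loc.Three
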