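import Cfsg.Agent.Lib.Spor.Loc.Three.Position

/-!
The centraliser modulo itself of a subgroup of order three, not central in a Sylow subgroup of the
joint centraliser of two conjugates, in a group of Monster type.
-/

set_option autoImplicit false
set_option maxRecDepth 100000
set_option linter.unusedSectionVars false

namespace CfsgLib.Spor.Loc.Three

open Cfsg CfsgLib.Spor CfsgLib.ThreeTransp
open CfsgLib.ThreeTransp.MonsterFrame (qImage up)
open CfsgLib.ThreeTransp.CoReduce (bigE)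

/-- an element of order three with large centraliser is central in a Sylow subgroup -/
theorem exists_sylow_central {L : Type*} [Group L] [Finite L] (h81 : ¬ 81 ∣ Nat.card L) {b : L}
    (hb : orderOf b = 3)
    (h27 : 27 ∣ Nat.card ↥(Subgroup.centralizer ({b} : Set L))) :
    ∃ P : Sylow 3 L, Subgroup.zpowers b ≤
      (Subgroup.center ↥(P : Subgroup L)).map (P : Subgroup L).subtype := by
  haveI : Fact (Nat.Prime 3) := ⟨Nat.prime_three⟩
  set C := Subgroup.centralizer ({b} : Set L)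
  let bC : C := ⟨b, Subgroup.mem_centralizer_singleton_iff.2 rfl⟩
  have hbp : IsPGroup 3 (Subgroup.zpowers bC) := by
    refine IsPGroup.of_card (n := 1) ?_
    rw [Nat.card_zpowers, show orderOf bC = 3 from (Subgroup.orderOf_coe bC).symm.trans hb, pow_one]
  obtain ⟨R, hR⟩ := hbp.exists_le_sylow
  have hRp : IsPGroup 3 ((R : Subgroup C).map C.subtype) := R.isPGroup'.map _
  obtain ⟨P, hP⟩ := hRp.exists_le_sylow
  refine ⟨P, fun t ht => ?_⟩
  have hcard : (R : Subgroup C).map C.subtype = (P : Subgroup L) := by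
    refine Subgroup.eq_of_le_of_card_ge hP ?_
    obtain ⟨c, hc⟩ := IsPGroup.iff_card.1 P.isPGroup'
    obtain ⟨a, ha⟩ := IsPGroup.iff_card.1 hRp
    have hc3 : c ≤ 3 := by
      by_contra hlt
      exact h81 ((pow_dvd_pow 3 (show 4 ≤ c by omega)).trans (hc ▸ Subgroup.card_subgroup_dvd_card _))
    have ha3 : 27 ≤ Nat.card ↥((R : Subgroup C).map C.subtype) := by
      rw [Subgroup.card_subtype, R.card_eq_multiplicity]
      exact pow_le_pow_right₀ (by norm_num : 1 ≤ 3)
        ((Nat.prime_three.pow_dvd_iff_le_factorization Nat.card_pos.ne').1 (show 3 ^ 3 ∣ _ from h27))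
    rw [hc]
    exact le_trans (pow_le_pow_right₀ (by norm_num) hc3) ha3
  have hbP : b ∈ (P : Subgroup L) := hP ⟨bC, hR (Subgroup.mem_zpowers bC), rfl⟩
  obtain ⟨i, rfl⟩ := Subgroup.mem_zpowers_iff.1 ht
  refine ⟨⟨b ^ i, zpow_mem hbP i⟩, Subgroup.mem_center_iff.2 fun g => Subtype.ext ?_, rfl⟩
  have hg : (g : L) ∈ (R : Subgroup C).map C.subtype := by rw [hcard]; exact g.2
  obtain ⟨c, -, hc⟩ := hg
  show (g : L) * b ^ i = b ^ i * g
  rw [← hc]
  exact (show Commute (c : L) b from Subgroup.mem_centralizer_singleton_iff.1 c.2).zpow_right i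

variable {G : Type*} [Group G] [Finite G] {z : G}
  {Q : Subgroup (Subgroup.centralizer ({z} : Set G))} [Q.Normal]
  {e : (Subgroup.centralizer ({z} : Set G)) ⧸ Q ≃* Cfsg.Spor.Co1}
  {ψ : leechLattice → Q ⧸ Subgroup.center Q}

theorem centralizer_of_zpowers_eq {L : Type*} [Group L] {a b : L}
    (h : Subgroup.zpowers a = Subgroup.zpowers b) :
    Subgroup.centralizer ({a} : Set L) = Subgroup.centralizer ({b} : Set L) := by
  rw [← Subgroup.centralizer_closure ({a} : Set L), ← Subgroup.centralizer_closure ({b} : Set L),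
    ← Subgroup.zpowers_eq_closure, ← Subgroup.zpowers_eq_closure, h]

theorem thompson_type (M : MonsterFrame z Q e ψ) {s : Q} (hs : IsConj z (up s)) (hne : up s ≠ z)
    {Y : Subgroup G} (hY : Y ≤ Joint z (up s)) (hY3 : Nat.card Y = 3)
    (hnc : ∀ P : Sylow 3 ↥(Joint z (up s)), ¬ Y.subgroupOf (Joint z (up s)) ≤
      (Subgroup.center ↥(P : Subgroup ↥(Joint z (up s)))).map
        (P : Subgroup ↥(Joint z (up s))).subtype)
    [(Y.subgroupOf (Subgroup.centralizer (Y : Set G))).Normal] :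
    IsOfThompsonType (↥(Subgroup.centralizer (Y : Set G)) ⧸
      Y.subgroupOf (Subgroup.centralizer (Y : Set G))) := by
  classical
  haveI : Fact (Nat.Prime 3) := ⟨Nat.prime_three⟩
  have hYl : Nat.card (Y.subgroupOf (Joint z (up s))) = 3 :=
    (Nat.card_congr (Subgroup.subgroupOfEquivOfLe hY).toEquiv).trans hY3
  obtain ⟨b₀, hb₀Y, hb₀1⟩ : ∃ b₀ ∈ Y.subgroupOf (Joint z (up s)), b₀ ≠ 1 := by
    refine (Subgroup.bot_or_exists_ne_one _).resolve_left fun h => ?_
    rw [h, Subgroup.card_bot] at hYl; norm_num at hYl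
  have hb : orderOf b₀ = 3 := by
    refine ((Nat.dvd_prime Nat.prime_three).1 ?_).resolve_left (mt orderOf_eq_one_iff.1 hb₀1)
    rw [← hYl]
    exact Subgroup.orderOf_dvd_natCard _ hb₀Y
  have hzb : Subgroup.zpowers b₀ = Y.subgroupOf (Joint z (up s)) :=
    Subgroup.eq_of_le_of_card_ge (Subgroup.zpowers_le.2 hb₀Y) (by rw [Nat.card_zpowers, hb, hYl])
  have h27 : ¬ 27 ∣ Nat.card ↥(Subgroup.centralizer ({b₀} : Set ↥(Joint z (up s)))) := by
    intro h
    obtain ⟨v, hv, hvx⟩ := M.exists_norm64_of_conj hs hne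
    obtain ⟨g₀, rfl⟩ := exists_map (Or.inr (Or.inr rfl)) eTop v (sqNorm_bigE none) hv
    obtain ⟨P, hP⟩ := exists_sylow_central (not_eightyone_dvd (M.twist g₀) hvx) hb h
    exact hnc P (hzb ▸ hP)
  obtain ⟨e', ψ', M', b, hx, hbb, O⟩ := exists_over_three M hs hne hb h27
  have h27b : ¬ 27 ∣ Nat.card ↥(Subgroup.centralizer ({b} : Set ↥(Joint z (up s)))) := by
    rwa [centralizer_of_zpowers_eq hbb]
  have hB : Y = Subgroup.zpowers (b : G) := by
    rw [← Subgroup.map_subgroupOf_eq_of_le hY, ← hzb, ← hbb, MonoidHom.map_zpowers]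
    rfl
  obtain ⟨z', R, hRn, hset, hiso, -⟩ := O.local_type tab (r := 8) (w := 4) rfl (by norm_num) hB phiA
    phiA_surjective phiA_ker (fun g h => phiA_eq_one (tab.act_eq_one h)) alt_two_normal
    (fun q hq hqc hqne => by
      obtain ⟨g, hg, hgq⟩ := exists_conj_fixed hx hs hne O h27b q hq hqc hqne
      exact ⟨g, hB ▸ hg, hgq⟩)
    ⟨1, by norm_num, by decide +kernel⟩
  exact ⟨z', R, hRn, hset, hiso⟩

end CfsgLib.Spor.Loc.Three
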