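import Cfsg.Agent.Lib.Spor.Loc.Three.Blocks
import Cfsg.Agent.Lib.Spor.Loc.Quot

/-!
Standard position of a subgroup of order three of the joint centraliser of two conjugates which is
not central in a Sylow subgroup, and conjugation inside its centraliser.
-/

set_option autoImplicit false
set_option maxRecDepth 100000
set_option linter.unusedSectionVars false

namespace CfsgLib.Spor.Loc.Three

open Cfsg CfsgLib.Spor CfsgLib.ThreeTransp
open CfsgLib.ThreeTransp.MonsterFrame (qImage up)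
open CfsgLib.ThreeTransp.CoReduce (bigE)
open scoped Pointwise

variable {G : Type*} [Group G] [Finite G] {z : G}
  {Q : Subgroup (Subgroup.centralizer ({z} : Set G))} [Q.Normal]
  {e : (Subgroup.centralizer ({z} : Set G)) ⧸ Q ≃* Cfsg.Spor.Co1}
  {ψ : leechLattice → Q ⧸ Subgroup.center Q}

/-- projection to the simple group -/
abbrev prj : Co0 →* Cfsg.Spor.Co1 := QuotientGroup.mk' (Subgroup.center Co0)

/-- the joint centraliser -/
abbrev Joint (z : G) (s : G) : Subgroup G := Subgroup.centralizer ({z, s} : Set G)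

theorem mem_joint {z s a : G} : a ∈ Joint z s ↔ a * z = z * a ∧ a * s = s * a := by
  rw [Subgroup.mem_centralizer_iff]
  exact ⟨fun h => ⟨(h z (by simp)).symm, (h s (by simp)).symm⟩,
    fun ⟨h1, h2⟩ t ht => by rcases ht with rfl | rfl; exacts [h1.symm, h2.symm]⟩

theorem joint_le {z s : G} : Joint z s ≤ Subgroup.centralizer ({z} : Set G) :=
  Subgroup.centralizer_le (by simp)

/-- the image of the joint centraliser -/
theorem exists_image (M : MonsterFrame z Q e ψ) {s : Q} (hx : ψ eTop = QuotientGroup.mk s) :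
    ∃ f : ↥(Joint z (up s)) →* Cfsg.Spor.Co1,
      (∀ a : ↥(Joint z (up s)), f a = e (QuotientGroup.mk ⟨a, joint_le a.2⟩)) ∧
      (∀ a, ∃ g ∈ crossStab, prj g = f a) ∧
      (∀ g ∈ crossStab, ∃ a, f a = prj g) ∧ IsPGroup 2 f.ker := by
  let f : ↥(Joint z (up s)) →* Cfsg.Spor.Co1 :=
    (e.toMonoidHom.comp (QuotientGroup.mk' Q)).comp (Subgroup.inclusion joint_le)
  refine ⟨f, fun a => rfl, fun a => ?_, fun g hg => ?_, ?_⟩
  · obtain ⟨g, hg⟩ := QuotientGroup.mk_surjective (f a)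
    refine ⟨g, mem_crossStab_of_cl ?_, hg⟩
    rw [← psi_eq_iff M, M.iso.2.2.2 ⟨a, joint_le a.2⟩ g hg eTop s hx, hx]
    congr 1
    exact MonsterFrame.up_inj (mul_inv_eq_iff_eq_mul.2 (mem_joint.1 a.2).2)
  · have hv : ψ (g • eTop) = QuotientGroup.mk s := by
      rw [← hx, psi_eq_iff M]; exact cl_eTop_of_mem hg
    obtain ⟨h, he, hh⟩ := M.exists_lift
      (M.noncentral (Or.inr (Or.inr rfl)) (sqNorm_bigE none) hx) hx hv
    refine ⟨⟨h, mem_joint.2 ⟨Subgroup.mem_centralizer_singleton_iff.1 h.2,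
      mul_inv_eq_iff_eq_mul.1 hh⟩⟩, ?_⟩
    exact he.symm
  · rintro ⟨a, ha⟩
    refine ⟨2, Subtype.ext (Subtype.ext ?_)⟩
    have hq : Subgroup.inclusion joint_le a ∈ Q := by
      rwa [MonoidHom.mem_ker, MonoidHom.comp_apply, MonoidHom.comp_apply, MulEquiv.coe_toMonoidHom,
        map_eq_one_iff _ e.injective, QuotientGroup.mk'_apply, QuotientGroup.eq_one_iff] at ha
    exact up_pow_four M ⟨_, hq⟩

theorem coprime_two_three (j : ℕ) : Nat.Coprime 3 (2 ^ j) :=
  Nat.Coprime.pow_right j (by norm_num)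

/-- the three-part of the joint centraliser is at most 27 -/
theorem not_eightyone_dvd (M : MonsterFrame z Q e ψ) {s : Q} (hx : ψ eTop = QuotientGroup.mk s) :
    ¬ 81 ∣ Nat.card ↥(Joint z (up s)) := by
  obtain ⟨f, -, hP, -, hker⟩ := exists_image M hx
  obtain ⟨j, hj⟩ := IsPGroup.iff_card.1 hker
  intro h
  rw [← Subgroup.card_mul_index f.ker, Subgroup.index_ker, hj] at h
  have h1 : 81 ∣ Nat.card f.range :=
    (Nat.Coprime.dvd_mul_left (by
      rw [show (81 : ℕ) = 3 ^ 4 by norm_num]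
      exact (coprime_two_three j).pow_left 4)).1 h
  have h2 : f.range ≤ crossStab.map prj := by
    rintro _ ⟨a, rfl⟩
    exact hP a
  have h3 := h1.trans ((Subgroup.card_dvd_of_le h2).trans (Subgroup.card_map_dvd crossStab prj))
  rw [natCard_crossStab] at h3
  norm_num at h3

/-- a commuting lift of the centraliser in the cross stabiliser -/
theorem big_centralizer {s : G} {f : ↥(Joint z s) →* Cfsg.Spor.Co1}
    (hsurj : ∀ g ∈ crossStab, ∃ a, f a = prj g) (hker : IsPGroup 2 f.ker)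
    {b : ↥(Joint z s)} (hb : orderOf b = 3) {g : Co0} (hgb : prj g = f b)
    (h27 : 27 ∣ Nat.card ↥(crossStab ⊓ Subgroup.centralizer ({g} : Set Co0))) :
    27 ∣ Nat.card ↥(Subgroup.centralizer ({b} : Set ↥(Joint z s))) := by
  set S := crossStab ⊓ Subgroup.centralizer ({g} : Set Co0)
  set C := Subgroup.centralizer ({b} : Set ↥(Joint z s))
  have hle : S.map prj ≤ C.map f := by
    rintro _ ⟨c, hc, rfl⟩
    obtain ⟨a, ha⟩ := hsurj c hc.1
    obtain ⟨j, hj⟩ := IsPGroup.iff_card.1 hker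
    have hcop : (Nat.card (Subgroup.zpowers b)).Coprime (Nat.card f.ker) := by
      rw [Nat.card_zpowers, hb, hj]; exact coprime_two_three j
    have hfix : ∀ t ∈ Subgroup.zpowers b, a⁻¹ * (t * a * t⁻¹) ∈ f.ker := by
      intro t ht
      obtain ⟨i, rfl⟩ := Subgroup.mem_zpowers_iff.1 ht
      have hcomm : Commute (f b) (f a) := by
        rw [← hgb, ha]
        exact (show Commute g c from (Subgroup.mem_centralizer_singleton_iff.1 hc.2).symm).map prj
      rw [MonoidHom.mem_ker, map_mul, map_inv, map_mul, map_mul, map_inv, map_zpow,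
        (hcomm.zpow_left i).eq, mul_inv_cancel_right, inv_mul_cancel]
    obtain ⟨d, hd, hdk⟩ := CfsgLib.Coprime.exists_centralizing_in_coset
      (A := Subgroup.zpowers b) (N := f.ker)
      (by rw [Subgroup.normalizer_eq_top]; exact le_top) hcop
      (Or.inl (Group.isSolvable_of_comm fun x y => Subtype.ext (by
        obtain ⟨i, hi⟩ := x.2; obtain ⟨j, hj⟩ := y.2
        simp only [Subgroup.coe_mul, ← hi, ← hj]
        exact (Commute.zpow_zpow (Commute.refl b) i j).eq))) hfix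
    refine ⟨d, Subgroup.mem_centralizer_singleton_iff.2
      (Subgroup.mem_centralizer_iff.1 hd b (Subgroup.mem_zpowers b)).symm, ?_⟩
    rw [← ha]
    rw [MonoidHom.mem_ker, map_mul, map_inv, inv_mul_eq_one] at hdk
    exact hdk.symm
  refine (?_ : 27 ∣ Nat.card (S.map prj)).trans
    ((Subgroup.card_dvd_of_le hle).trans (Subgroup.card_map_dvd C f))
  have hm := Subgroup.card_mul_index ((prj.comp S.subtype).ker)
  rw [Subgroup.index_ker, MonoidHom.range_comp, Subgroup.range_subtype] at hm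
  have hk : Nat.card (prj.comp S.subtype).ker ≤ 2 := by
    classical
    refine le_trans (Nat.card_le_card_of_injective
      (fun x => (⟨((x : ↥S) : Co0), ?_⟩ : ({1, negEl} : Finset Co0))) ?_) ?_
    · have hx := x.2
      rw [MonoidHom.mem_ker, MonoidHom.comp_apply, QuotientGroup.mk'_apply,
        QuotientGroup.eq_one_iff] at hx
      simpa using eq_of_central hx
    · exact fun x y h => Subtype.ext (Subtype.ext
        (congrArg (fun t : ↥({1, negEl} : Finset Co0) => (t : Co0)) h))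
    · rw [Nat.card_eq_finsetCard]; exact Finset.card_le_two
  have hpos : 0 < Nat.card (prj.comp S.subtype).ker := Nat.card_pos
  refine (Nat.Coprime.dvd_mul_left ?_).1 (hm ▸ h27)
  rcases (show Nat.card (prj.comp S.subtype).ker = 1 ∨ Nat.card (prj.comp S.subtype).ker = 2 by omega)
    with h | h <;> rw [h] <;> norm_num

/-- standard position of an element of order three -/
theorem exists_std (M : MonsterFrame z Q e ψ) {s : Q} (hx : ψ eTop = QuotientGroup.mk s)
    {f : ↥(Joint z (up s)) →* Cfsg.Spor.Co1}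
    (hP : ∀ a, ∃ g ∈ crossStab, prj g = f a)
    (hsurj : ∀ g ∈ crossStab, ∃ a, f a = prj g) (hker : IsPGroup 2 f.ker)
    {b : ↥(Joint z (up s))} (hb : orderOf b = 3)
    (h27 : ¬ 27 ∣ Nat.card ↥(Subgroup.centralizer ({b} : Set ↥(Joint z (up s))))) :
    ∃ n ∈ crossStab, ∃ i : ℕ, (i = 1 ∨ i = 2) ∧ f (b ^ i) = prj (n * bh * n⁻¹) := by
  obtain ⟨g₀, hg₀, hg₀b⟩ := hP b
  have hb3 : b ^ 3 = 1 := hb ▸ pow_orderOf_eq_one b
  have hc3 : g₀ ^ 3 ∈ Subgroup.center Co0 := by
    rw [← QuotientGroup.eq_one_iff]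
    show prj (g₀ ^ 3) = 1
    rw [map_pow, hg₀b, ← map_pow, hb3, map_one]
  have hnegS : negEl ∈ crossStab := monoEl_mem_crossStab _
  obtain ⟨g, hg, hg3, hgb⟩ : ∃ g ∈ crossStab, g ^ 3 = 1 ∧ prj g = f b := by
    rcases eq_of_central hc3 with h | h
    · exact ⟨g₀, hg₀, h, hg₀b⟩
    · refine ⟨g₀ * negEl, mul_mem hg₀ hnegS, ?_, ?_⟩
      · have hc : Commute g₀ negEl := Subgroup.mem_center_iff.1 negEl_central g₀
        have hn2 : negEl * negEl = 1 :=
          co0_ext fun i => by rw [mul_smul, negEl_smul, negEl_smul, neg_neg, one_smul]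
        rw [hc.mul_pow, h, pow_succ, pow_two, hn2, one_mul, hn2]
      · rw [map_mul, hg₀b, show prj negEl = 1 from (QuotientGroup.eq_one_iff _).2 negEl_central,
          mul_one]
  have hne : g ≠ 1 := by
    intro h
    rw [h, map_one] at hgb
    have hbk : b ∈ f.ker := hgb.symm
    obtain ⟨k, hk⟩ := hker ⟨b, hbk⟩
    have hk' : b ^ 2 ^ k = 1 := congrArg Subtype.val hk
    have := pow_gcd_eq_one.2 ⟨hb3, hk'⟩
    rw [Nat.Coprime.gcd_eq_one (coprime_two_three k), pow_one] at this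
    rw [this, orderOf_one] at hb
    norm_num at hb
  rcases cross_three g hg hg3 hne with ⟨n, hn, h | h⟩ | h
  · refine ⟨n⁻¹, inv_mem hn, 1, Or.inl rfl, ?_⟩
    rw [pow_one, ← hgb, bh, ← h]
    congr 1; group
  · refine ⟨n⁻¹, inv_mem hn, 2, Or.inr rfl, ?_⟩
    rw [map_pow, ← hgb, ← map_pow]
    congr 1
    have h2 : bh = (n * g * n⁻¹) ^ 2 := by
      rw [h, ← pow_mul, show 2 * 2 = 3 + 1 from rfl, pow_succ,
        ← permEl_pow, t3El_cube, permEl_one, one_mul]
    rw [h2, pow_two, pow_two]; group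
  · exact absurd (big_centralizer hsurj hker hb hgb h) h27

/-- Two elements of order three in standard position give conjugate subgroups. -/
theorem exists_conj_joint (M : MonsterFrame z Q e ψ) {s : Q} (hx : ψ eTop = QuotientGroup.mk s)
    {b b' : ↥(Joint z (up s))} (hb : orderOf b = 3) (hb' : orderOf b' = 3)
    (h27 : ¬ 27 ∣ Nat.card ↥(Subgroup.centralizer ({b} : Set ↥(Joint z (up s)))))
    (h27' : ¬ 27 ∣ Nat.card ↥(Subgroup.centralizer ({b'} : Set ↥(Joint z (up s))))) :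
    ∃ l : ↥(Joint z (up s)), l * b' * l⁻¹ ∈ Subgroup.zpowers b := by
  obtain ⟨f, -, hP, hsurj, hker⟩ := exists_image M hx
  obtain ⟨n, hn, i, hi, hbi⟩ := exists_std M hx hP hsurj hker hb h27
  obtain ⟨n', hn', i', hi', hbi'⟩ := exists_std M hx hP hsurj hker hb' h27'
  obtain ⟨l₀, hl₀⟩ := hsurj (n * n'⁻¹) (mul_mem hn (inv_mem hn'))
  set x := l₀ * b' ^ i' * l₀⁻¹ with hxdef
  have hfx : f x = f (b ^ i) := by
    rw [hxdef, map_mul, map_mul, map_inv, hl₀, hbi', hbi, ← map_inv, ← map_mul, ← map_mul]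
    congr 1; group
  have hox : orderOf x = 3 := by
    rw [hxdef, show l₀ * b' ^ i' * l₀⁻¹ = MulAut.conj l₀ (b' ^ i') from rfl, MulEquiv.orderOf_eq,
      orderOf_pow, hb']
    rcases hi' with rfl | rfl <;> rfl
  have hob : orderOf (b ^ i) = 3 := by
    rw [orderOf_pow, hb]
    rcases hi with rfl | rfl <;> rfl
  obtain ⟨j, hj⟩ := IsPGroup.iff_card.1 hker
  obtain ⟨a, ha, hae⟩ := CfsgLib.Coprime.sz_conj_rel (N := f.ker) (H := Subgroup.zpowers x)
    (K := Subgroup.zpowers (b ^ i))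
    (by rw [Subgroup.normalizer_eq_top]; exact le_top)
    (by rw [Subgroup.normalizer_eq_top]; exact le_top)
    (by rw [hj, Nat.card_zpowers, hox]; exact (coprime_two_three j).symm)
    (by rw [Nat.card_zpowers, Nat.card_zpowers, hox, hob])
    (Subgroup.zpowers_le.2 (by
      rw [show b ^ i = b ^ i * x⁻¹ * x by group]
      refine Subgroup.mul_mem_sup (MonoidHom.mem_ker.2 ?_) (Subgroup.mem_zpowers x)
      rw [map_mul, map_inv, hfx, mul_inv_cancel]))
    (Or.inr (Group.isSolvable_of_comm fun u v => Subtype.ext (by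
      obtain ⟨c, hc⟩ := u.2; obtain ⟨d, hd⟩ := v.2
      simp only [Subgroup.coe_mul, ← hc, ← hd]
      exact (Commute.zpow_zpow (Commute.refl x) c d).eq)))
  refine ⟨a * l₀, ?_⟩
  have hm : a * x * a⁻¹ ∈ Subgroup.zpowers b := by
    have h1 : MulAut.conj a x ∈ MulAut.conj a • Subgroup.zpowers x :=
      ⟨x, Subgroup.mem_zpowers x, rfl⟩
    rw [hae] at h1
    exact Subgroup.zpowers_le.2 (pow_mem (Subgroup.mem_zpowers b) i) h1
  have e' : a * l₀ * b' * (a * l₀)⁻¹ = (a * x * a⁻¹) ^ i' := by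
    rw [hxdef, show a * (l₀ * b' ^ i' * l₀⁻¹) * a⁻¹ = (a * l₀) * b' ^ i' * (a * l₀)⁻¹ by group,
      conj_pow, ← pow_mul]
    congr 2
    rw [← pow_mod_orderOf, hb']
    rcases hi' with rfl | rfl <;> simp
  rw [e']
  exact pow_mem hm i'

/-- Standard position. -/
theorem exists_over_three (M : MonsterFrame z Q e ψ) {s : Q} (hs : IsConj z (up s)) (hne : up s ≠ z)
    {b₀ : ↥(Joint z (up s))} (hb : orderOf b₀ = 3)
    (h27 : ¬ 27 ∣ Nat.card ↥(Subgroup.centralizer ({b₀} : Set ↥(Joint z (up s))))) :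
    ∃ (e' : (Subgroup.centralizer ({z} : Set G)) ⧸ Q ≃* Cfsg.Spor.Co1)
      (ψ' : leechLattice → Q ⧸ Subgroup.center Q) (M' : MonsterFrame z Q e' ψ')
      (b : ↥(Joint z (up s))), ψ' eTop = QuotientGroup.mk s ∧
      Subgroup.zpowers b = Subgroup.zpowers b₀ ∧ Over M' (b : G) bh 3 := by
  obtain ⟨v, hv, hvx⟩ := M.exists_norm64_of_conj hs hne
  obtain ⟨g₀, rfl⟩ := exists_map (Or.inr (Or.inr rfl)) eTop v (sqNorm_bigE none) hv
  have M₁ := M.twist g₀
  set ψ₁ : leechLattice → Q ⧸ Subgroup.center Q := fun v => ψ (g₀ • v)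
  set e₁ := e.trans (MulAut.conj (QuotientGroup.mk g₀ : Cfsg.Spor.Co1)⁻¹)
  have hx : ψ₁ eTop = QuotientGroup.mk s := hvx
  obtain ⟨f, hf, hP, hsurj, hker⟩ := exists_image M₁ hx
  obtain ⟨n, hn, i, hi, hbi⟩ := exists_std M₁ hx hP hsurj hker hb h27
  have hob : orderOf (b₀ ^ i) = 3 := by
    rw [orderOf_pow, hb]
    rcases hi with rfl | rfl <;> rfl
  refine ⟨e₁.trans (MulAut.conj (QuotientGroup.mk n : Cfsg.Spor.Co1)⁻¹), fun v => ψ₁ (n • v),
    M₁.twist n, b₀ ^ i, ?_, ?_, Nat.prime_three, ⟨1, rfl⟩, ?_, ?_, joint_le (b₀ ^ i).2, ?_⟩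
  · show ψ₁ (n • eTop) = _
    rw [← hx, psi_eq_iff M₁]
    exact cl_eTop_of_mem hn
  · exact Subgroup.eq_of_le_of_card_ge (Subgroup.zpowers_le.2 (pow_mem (Subgroup.mem_zpowers b₀) i))
      (by rw [Nat.card_zpowers, Nat.card_zpowers, hob, hb])
  · rw [Subgroup.orderOf_coe, hob]
  · rw [bh, ← permEl_pow, t3El_cube, permEl_one]
  · show prj bh = (prj n)⁻¹ * e₁ (QuotientGroup.mk _) * ((prj n)⁻¹)⁻¹
    have key : prj (n * bh * n⁻¹) = e₁ (QuotientGroup.mk ⟨((b₀ ^ i : ↥(Joint z (up s))) : G),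
        joint_le (b₀ ^ i).2⟩) := hbi.symm.trans (hf _)
    rw [← key, map_mul, map_mul, map_inv]
    group

theorem progK_ok : progK.all Stp.ok = true ∧
    Co1Out.sameOK (prog ++ progK) (progK ++ prog ++ prog) = true := by decide +kernel

theorem exists_inverting : ∃ n : Co0, n * bh * n⁻¹ = bh ^ 2 := by
  obtain ⟨g, -, hg⟩ := exists_prog progK_ok.1
  refine ⟨g, mul_inv_eq_iff_eq_mul.2 ?_⟩
  rw [pow_two]
  refine Co1Out.eq_of_sameOK (Co1Out.actsAs_mul hg actsAs_bh)
    (Co1Out.actsAs_mul (Co1Out.actsAs_mul actsAs_bh actsAs_bh) hg) ?_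
  rw [← List.append_assoc]
  exact progK_ok.2

/-- Elements commuting with `b` above a given centralising automorphism. -/
theorem exists_lift_comm {M : MonsterFrame z Q e ψ} {b : G} (O : Over M b bh 3) (g : CB bh) :
    ∃ c : Subgroup.centralizer ({z} : Set G), (c : G) * b = b * c ∧
      (QuotientGroup.mk (g : Co0) : Cfsg.Spor.Co1) = e (QuotientGroup.mk c) := by
  obtain ⟨hbC, hbe⟩ := O.image
  obtain ⟨c0, hc0⟩ := QuotientGroup.mk_surjective (e.symm (QuotientGroup.mk (g : Co0)))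
  have hc0' : e (QuotientGroup.mk c0) = QuotientGroup.mk (g : Co0) := by
    rw [hc0, e.apply_symm_apply]
  let bC : Subgroup.centralizer ({z} : Set G) := ⟨b, hbC⟩
  have hfix : ∀ a ∈ Subgroup.zpowers bC, c0⁻¹ * (a * c0 * a⁻¹) ∈ Q := by
    intro a ha
    obtain ⟨i, rfl⟩ := Subgroup.mem_zpowers_iff.1 ha
    rw [← QuotientGroup.eq_one_iff, ← e.map_eq_one_iff]
    simp only [QuotientGroup.mk_mul, QuotientGroup.mk_inv, QuotientGroup.mk_zpow, map_mul,
      map_inv, map_zpow, hc0']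
    rw [show e (QuotientGroup.mk bC) = QuotientGroup.mk bh from hbe.symm]
    have hc : Commute (QuotientGroup.mk bh : Cfsg.Spor.Co1) (QuotientGroup.mk (g : Co0)) :=
      (congrArg (QuotientGroup.mk (s := Subgroup.center Co0))
        (Subgroup.mem_centralizer_singleton_iff.1 g.2).symm)
    rw [(hc.zpow_left i).eq]
    group
  have h2 : IsPGroup 2 Q := fun x => ⟨2, MonsterFrame.up_inj (up_pow_four M x)⟩
  have hcop : (Nat.card (Subgroup.zpowers bC)).Coprime (Nat.card Q) := by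
    obtain ⟨k, hk⟩ := IsPGroup.iff_card.1 h2
    rw [hk, Nat.card_zpowers, show orderOf bC = 3 from (Subgroup.orderOf_coe bC).symm.trans O.ord]
    exact coprime_two_three k
  obtain ⟨c, hc, hcQ⟩ := CfsgLib.Coprime.exists_centralizing_in_coset (A := Subgroup.zpowers bC)
    (N := Q) (by rw [Subgroup.normalizer_eq_top]; exact le_top) hcop
    (Or.inl (Group.isSolvable_of_comm fun x y => Subtype.ext (by
      obtain ⟨i, hi⟩ := x.2; obtain ⟨j, hj⟩ := y.2
      simp only [Subgroup.coe_mul, ← hi, ← hj]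
      exact (Commute.zpow_zpow (Commute.refl bC) i j).eq))) hfix
  refine ⟨c, (congrArg Subtype.val
    (Subgroup.mem_centralizer_iff.1 hc bC (Subgroup.mem_zpowers bC))).symm, ?_⟩
  rw [← hc0']
  exact congrArg e (QuotientGroup.eq.2 hcQ)

/-- The conjugates of `z` among the fixed points are conjugate in the centraliser of `b`. -/
theorem exists_conj_fixed {M : MonsterFrame z Q e ψ} {s : Q} (hx : ψ eTop = QuotientGroup.mk s)
    (hs : IsConj z (up s)) (hne : up s ≠ z) {b : ↥(Joint z (up s))} (O : Over M (b : G) bh 3)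
    (h27 : ¬ 27 ∣ Nat.card ↥(Subgroup.centralizer ({b} : Set ↥(Joint z (up s)))))
    (q : Q) (hq : up q ∈ CQ M (b : G)) (hqc : IsConj z (up q)) (hqne : up q ≠ z) :
    ∃ g ∈ Subgroup.centralizer (Subgroup.zpowers (b : G) : Set G), g * z * g⁻¹ = up q := by
  classical
  haveI : Fact (Nat.Prime 3) := ⟨Nat.prime_three⟩
  obtain ⟨hbz, hbs⟩ := mem_joint.1 b.2
  have hob : orderOf b = 3 := (Subgroup.orderOf_coe b).symm.trans O.ord
  -- from `z` to `s`
  obtain ⟨g₁, hg₁, hg₁s⟩ := exists_conj_centralizer Nat.prime_three O.ord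
    (exists_swap M hs hne) hbz hbs
    (fun g hgz hgs => by
      have hnorm : ∀ a ∈ Joint z (up s), g * a * g⁻¹ ∈ Joint z (up s) := by
        intro a ha
        obtain ⟨h1, h2⟩ := mem_joint.1 ha
        have c1 : Commute (g * a * g⁻¹) (g * up s * g⁻¹) := (Commute.conj_iff g).2 h2
        have c2 : Commute (g * a * g⁻¹) (g * z * g⁻¹) := (Commute.conj_iff g).2 h1
        rw [hgs] at c1
        rw [hgz] at c2
        exact mem_joint.2 ⟨c1.eq, c2.eq⟩
      have hnorm' : ∀ a ∈ Joint z (up s), g⁻¹ * a * g ∈ Joint z (up s) := by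
        intro a ha
        obtain ⟨h1, h2⟩ := mem_joint.1 ha
        have hz' : g⁻¹ * up s * g⁻¹⁻¹ = z := by
          calc g⁻¹ * up s * g⁻¹⁻¹ = g⁻¹ * (g * z * g⁻¹) * g⁻¹⁻¹ := by rw [hgz]
            _ = z := by group
        have hs' : g⁻¹ * z * g⁻¹⁻¹ = up s := by
          calc g⁻¹ * z * g⁻¹⁻¹ = g⁻¹ * (g * up s * g⁻¹) * g⁻¹⁻¹ := by rw [hgs]
            _ = up s := by group
        have c1 := (Commute.conj_iff g⁻¹).2 h2
        have c2 := (Commute.conj_iff g⁻¹).2 h1
        rw [hz'] at c1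
        rw [hs'] at c2
        rw [inv_inv] at c1 c2
        exact mem_joint.2 ⟨c1.eq, c2.eq⟩
      let φ : ↥(Joint z (up s)) ≃* ↥(Joint z (up s)) :=
        { toFun := fun a => ⟨g * a * g⁻¹, hnorm a a.2⟩
          invFun := fun a => ⟨g⁻¹ * a * g, hnorm' a a.2⟩
          left_inv := fun a => Subtype.ext (by simp [mul_assoc])
          right_inv := fun a => Subtype.ext (by simp [mul_assoc])
          map_mul' := fun a c => Subtype.ext (by simp [mul_assoc]) }
      have hb' : orderOf (φ b) = 3 := by rw [MulEquiv.orderOf_eq, hob]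
      have h27' : ¬ 27 ∣ Nat.card ↥(Subgroup.centralizer ({φ b} : Set ↥(Joint z (up s)))) := by
        rw [Nat.card_congr (?_ : ↥(Subgroup.centralizer ({φ b} : Set ↥(Joint z (up s)))) ≃
          ↥(Subgroup.centralizer ({b} : Set ↥(Joint z (up s)))))]
        · exact h27
        · exact (Equiv.subtypeEquiv φ.toEquiv fun a => by
            rw [Subgroup.mem_centralizer_singleton_iff, Subgroup.mem_centralizer_singleton_iff]
            show _ ↔ φ a * φ b = φ b * φ a
            rw [← map_mul, ← map_mul, φ.injective.eq_iff]).symm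
      obtain ⟨l, hl⟩ := exists_conj_joint M hx hob hb' h27 h27'
      refine ⟨l, (mem_joint.1 l.2).1, (mem_joint.1 l.2).2, ?_⟩
      obtain ⟨i, hi⟩ := Subgroup.mem_zpowers_iff.1 hl
      exact Subgroup.mem_zpowers_iff.2 ⟨i, by simpa [φ] using congrArg Subtype.val hi⟩)
    (fun k hk => by
      rcases (show k % 3 = 1 ∨ k % 3 = 2 by omega) with h | h
      · exact ⟨1, by simp, by rw [← pow_mod_orderOf, O.ord, h]; simp⟩
      · obtain ⟨n, hn⟩ := exists_inverting
        obtain ⟨c, hc, hcb⟩ := O.exists_normalizer hn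
        exact ⟨c, Subgroup.mem_centralizer_singleton_iff.1 hc,
          by rw [hcb, ← pow_mod_orderOf (b : G) k, O.ord, h]⟩)
  -- from the class of `s` to the class of `q`
  obtain ⟨v, hv, hvq⟩ := (M.norm64_iff q).1 ⟨hqc, hqne⟩
  obtain ⟨i, hi, hvi⟩ := tab.cover v ((O.mem_CQ M hvq).1 hq)
  have hi0 : i ≠ 0 := by
    rintro rfl
    exact cl_ne_zero v (Or.inr (Or.inr hv)) (hvi.trans tab.zero)
  have hn : sqNorm ((tv tb i : leechLattice) : GolayPt → ℤ) = normL (tb.getD i []) := by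
    rw [sqNorm_lOf, tv, lOf_toL (tab.entry i hi)]
  have h64 : normL (tb.getD i []) = 64 := by
    rw [← hn, ← norm_eq_of_cl hvi hv.le ?_, hv]
    rcases tab.norm i hi hi0 with h | h | h <;> omega
  have hio : i ∈ orbit := by
    have h := List.all_eq_true.1 orbit_ok.2.2.1 i (List.mem_range.2 hi)
    simp only [h64, decide_true, Bool.not_true, Bool.false_or, List.any_eq_true, Nat.beq_eq] at h
    obtain ⟨j, hj, rfl⟩ := h
    exact hj
  obtain ⟨-, g, -, hgi⟩ := reach i hio
  obtain ⟨c, hcb, hce⟩ := exists_lift_comm O g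
  have hcl : cl ((g : Co0) • eTop) = cl v := by
    rw [hvi, ← hgi, ← tv_top]
    exact tab.img_spec g ⟨1, by norm_num⟩
  have h1 := M.iso.2.2.2 c g hce eTop s hx
  rw [(psi_eq_iff M).2 hcl, hvq] at h1
  let s' : Q := ⟨c * s * c⁻¹, (inferInstance : Q.Normal).conj_mem _ s.2 c⟩
  have hcases := M.center_cases (QuotientGroup.eq.1 (h1.symm : (QuotientGroup.mk s' : Q ⧸ _) = _))
  have hs'u : up s' = (c : G) * up s * (c : G)⁻¹ := rfl
  have hcz : (c : G) * z = z * c := Subgroup.mem_centralizer_singleton_iff.1 c.2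
  have hmemC : ∀ {a : G}, a * b = b * a →
      a ∈ Subgroup.centralizer (Subgroup.zpowers (b : G) : Set G) := fun {a} h => by
    rw [Subgroup.zpowers_eq_closure, Subgroup.centralizer_closure,
      Subgroup.mem_centralizer_singleton_iff]
    exact h
  rcases hcases with h | h
  · refine ⟨(c : G) * g₁, mul_mem (hmemC hcb) hg₁, ?_⟩
    have h' : (up s')⁻¹ * up q = 1 := h
    rw [inv_mul_eq_one] at h'
    rw [← h', hs'u, ← hg₁s]; group
  · obtain ⟨y, hy, hys⟩ : ∃ y ∈ CQ M (b : G), y * up s ≠ up s * y := by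
      by_contra hno
      push Not at hno
      have hsC : up s ∈ CQ M (b : G) :=
        ⟨M.mem_QG s, Subgroup.mem_centralizer_singleton_iff.2 hbs.symm⟩
      rcases O.center_CQ M hsC hno with h' | h'
      · exact M.xcent.ne_one (isConj_one_left.1 (h' ▸ hs))
      · exact hne h'
    have hyz : y * up s * y⁻¹ = z * up s := by
      rcases M.xcent.commEl y hy.1 (up s) (M.mem_QG s) with h' | h'
      · exact absurd (mul_inv_eq_iff_eq_mul.1 h') hys
      · exact h'
    refine ⟨(c : G) * y * g₁, mul_mem (mul_mem (hmemC hcb)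
      (hmemC (Subgroup.mem_centralizer_singleton_iff.1 hy.2))) hg₁, ?_⟩
    have h' : (up s')⁻¹ * up q = z := h
    rw [inv_mul_eq_iff_eq_mul] at h'
    rw [h', hs'u, show (c : G) * y * g₁ * z * ((c : G) * y * g₁)⁻¹ =
      c * (y * (g₁ * z * g₁⁻¹) * y⁻¹) * (c : G)⁻¹ by group, hg₁s, hyz]
    have hzs : z * up s = up s * z := (M.xcent.comm _ (M.mem_QG s)).symm
    rw [hzs, show (c : G) * (up s * z) * (c : G)⁻¹ = c * up s * (z * (c : G)⁻¹) by group,
      show z * (c : G)⁻¹ = (c : G)⁻¹ * z from (Commute.inv_left (show Commute (c : G) z from hcz)).symm.eq]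
    group

end CfsgLib.Spor.Loc.Three
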