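import Cfsg.Agent.Lib.Spor.Loc.CrossThree
import Cfsg.Agent.Lib.Spor.Loc.Setup
import Cfsg.Agent.Lib.Spor.Loc.ThreeData

/-!
Certified table of the classes fixed by the fixed point free element of order three, and generators
of its centraliser.
-/

set_option autoImplicit false
set_option maxRecDepth 100000

namespace CfsgLib.Spor.Loc.Three

open Cfsg CfsgLib.Spor
open CfsgLib.MathieuOut (dfs planOK normP canon canon_mem_dfs canon_eq_normP canon_injective stabG_M24 rep_idP)
open scoped Pointwise symmDiff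

/-- the automorphism -/
noncomputable abbrev bh : Co0 := permEl t3El

/-- its program -/
def prog : List Stp := [.mono permAi 0]

theorem actsAs_bh : ActsAs bh (runP prog) :=
  Co1Out.actsAs_monoEl (by exact rep_t3El_inv) toSet_zero.symm

theorem tab_ok : tabOK prog 3 8 tb cov = true := by
  simp only [tabOK, Bool.and_eq_true]
  refine ⟨⟨⟨⟨⟨⟨⟨?_, ?_⟩, ?_⟩, ?_⟩, ?_⟩, ?_⟩, ?_⟩, ?_⟩ <;> decide +kernel

theorem tab : Tab bh 8 tb := tab_of_ok actsAs_bh ⟨1, rfl⟩ tab_ok

theorem tv_top : tv tb 1 = eTop := by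
  refine Subtype.ext (lOf_inj ?_)
  rw [tv, lOf_toL (tab.entry 1 (by norm_num)), eTop_coe, ← bigE_coe, Co1Out.lOf_bigE]
  decide +kernel

theorem gens_ok (k : Fin 7) :
    genOK prog (gens.getD k []) 8 tb (imgs.getD k []) = true := by
  fin_cases k <;> decide +kernel

theorem exists_gEl (k : Fin 7) : ∃ g : CB bh, ActsAs (g : Co0) (runP (gens.getD k [])) ∧
    ∀ i : Fin (2 ^ 8), (tab.img g i : ℕ) = lext 8 (imgs.getD k []) i :=
  exists_gen actsAs_bh tab (gens_ok k)

/-- the certified generators -/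
noncomputable def gEl (k : Fin 7) : CB bh := (exists_gEl k).choose

theorem gEl_acts (k : Fin 7) : ActsAs (gEl k : Co0) (runP (gens.getD k [])) :=
  (exists_gEl k).choose_spec.1

theorem gEl_img (k : Fin 7) : ∀ i : Fin (2 ^ 8),
    (tab.img (gEl k) i : ℕ) = lext 8 (imgs.getD k []) i :=
  (exists_gEl k).choose_spec.2

/-- the subgroup they generate -/
noncomputable abbrev genS : Subgroup (CB bh) := Subgroup.closure (Set.range gEl)

/-- its image among the automorphisms -/
noncomputable abbrev genS0 : Subgroup Co0 := genS.map (CB bh).subtype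

theorem gEl_mem (k : Fin 7) : (gEl k : Co0) ∈ genS0 :=
  ⟨gEl k, Subgroup.subset_closure ⟨k, rfl⟩, rfl⟩

theorem mem_genS0_of_acts (k : Fin 7) {P : List Stp} (hP : gens.getD k [] = P) {g : Co0}
    (hg : ActsAs g (runP P)) : g ∈ genS0 := by
  subst hP
  rw [actsAs_unique hg (gEl_acts k)]
  exact gEl_mem k

end CfsgLib.Spor.Loc.Three
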